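import Groth.Agent.Lib.RootDatum.PosSys
import Mathlib.LinearAlgebra.RootSystem.Base
import Mathlib.LinearAlgebra.RootSystem.Finite.Nondegenerate
import Mathlib.LinearAlgebra.RootSystem.Reduced
import Mathlib.LinearAlgebra.Matrix.ToLinearEquiv

/-!
# Bases of reduced root pairings over the integers, and closed sets in positive systems
-/

set_option autoImplicit false
set_option linter.style.haveILetI false

open Set Function Module
open Groth.Agent.Lib.RootDatum.Basic Groth.Agent.Lib.RootDatum.PosSys

namespace Groth.Agent.H82.Roots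

variable {ι M N : Type*} [AddCommGroup M] [AddCommGroup N] [Finite ι] (P : RootPairing ι ℤ M N)

/-- A set of roots none of whose nonempty sums vanishes. -/
def Pointed (S : Set ι) : Prop := ∀ l : List ι, (∀ a ∈ l, a ∈ S) → (l.map P.root).sum = 0 → l = []

theorem exists_isPosSys_superset {R' : Set ι} (hR' : Pointed P R') :
    ∃ S, R' ⊆ S ∧ RootD.IsPosSys P S := by
  obtain ⟨S, hRS, hS⟩ := (Set.toFinite {S : Set ι | Pointed P S}).exists_le_maximal hR'
  have hP : Pointed P S := hS.prop
  have hneg : ∀ a, P.root (P.reflectionPerm a a) = -P.root a := fun a => by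
    rw [P.root_reflectionPerm, P.reflection_apply_self]
  have hcover : ∀ a, a ∈ S ∨ P.reflectionPerm a a ∈ S := by
    intro a
    by_contra h
    push Not at h
    have hmax : ∀ c, c ∉ S → ∃ (l : List ι) (n : ℕ), (∀ b ∈ l, b ∈ S) ∧ 0 < n ∧
        (l.map P.root).sum + n • P.root c = 0 := by
      intro c hc
      have hnot : ¬ Pointed P (insert c S) := fun hp =>
        hc (hS.le_of_ge hp (subset_insert c S) (mem_insert c S))
      simp only [Pointed, not_forall] at hnot
      obtain ⟨l, hl, hl0, hne⟩ := hnot
      classical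
      have hsplit : (l.map P.root).sum =
          ((l.filter (· ∈ S)).map P.root).sum + (l.filter (· ∉ S)).length • P.root c := by
        clear hl0 hne
        induction l with
        | nil => simp
        | cons b t ih =>
          have ih' := ih fun x hx => hl x (List.mem_cons_of_mem _ hx)
          by_cases hb : b ∈ S
          · simp [hb, ih', add_assoc]
          · have hbc : b = c := (hl b (by simp)).resolve_right hb
            rw [List.filter_cons_of_neg (by simpa using hb), List.filter_cons_of_pos (by simpa using hb),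
              List.map_cons, List.sum_cons, ih', List.length_cons, succ_nsmul, hbc]
            abel
      refine ⟨l.filter (· ∈ S), (l.filter (· ∉ S)).length, fun b hb => of_decide_eq_true (List.mem_filter.1 hb).2,
        List.length_pos_iff.2 fun he => hne ?_, hsplit.symm.trans hl0⟩
      refine hP l (fun b hb => ?_) hl0
      by_contra hbS
      have : b ∈ l.filter (· ∉ S) := List.mem_filter.2 ⟨hb, decide_eq_true hbS⟩
      rw [he] at this
      simp at this
    obtain ⟨l, n, hl, hn, hl0⟩ := hmax a h.1
    obtain ⟨l', n', hl', hn', hl0'⟩ := hmax _ h.2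
    rw [hneg, smul_neg] at hl0'
    have key : ∀ (m : ℕ) (L : List ι), (((List.replicate m L).flatten).map P.root).sum = m • (L.map P.root).sum :=
      fun m L => by induction m <;> simp [List.replicate_succ, succ_nsmul', *]
    have hz : (((List.replicate n' l).flatten ++ (List.replicate n l').flatten).map P.root).sum = 0 := by
      rw [List.map_append, List.sum_append, key, key, eq_neg_of_add_eq_zero_left hl0,
        eq_neg_of_add_eq_zero_left hl0', neg_neg, smul_neg, smul_smul, smul_smul, mul_comm, neg_add_cancel]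
    have he := hP _ (fun b hb => by
      simp only [List.mem_append, List.mem_flatten, List.mem_replicate] at hb
      rcases hb with ⟨L, ⟨-, rfl⟩, hb⟩ | ⟨L, ⟨-, rfl⟩, hb⟩
      · exact hl b hb
      · exact hl' b hb) hz
    have hl_nil : l = [] := by
      by_contra hne
      obtain ⟨b, hb⟩ := List.exists_mem_of_ne_nil l hne
      have : b ∈ (List.replicate n' l).flatten ++ (List.replicate n l').flatten :=
        List.mem_append_left _ (List.mem_flatten.2 ⟨l, List.mem_replicate.2 ⟨by omega, rfl⟩, hb⟩)
      rw [he] at this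
      simp at this
    rw [hl_nil, List.map_nil, List.sum_nil, zero_add] at hl0
    exact P.ne_zero a (nsmul_eq_zero_weight P hn.ne' hl0)
  have hdis : ∀ a ∈ S, P.reflectionPerm a a ∉ S := fun a ha hna => by
    simpa using hP [a, P.reflectionPerm a a] (by simp [ha, hna]) (by simp [hneg])
  refine ⟨S, hRS, fun i hi => hdis i hi, hcover, fun k n hn hk => ?_⟩
  rcases hcover k with hk' | hk'
  · exact hk'
  obtain ⟨l, hl, hls⟩ := (mem_natSpan_iff_list P).1 hk
  have h0 := hP (List.replicate n (P.reflectionPerm k k) ++ l) (fun b hb => by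
    rcases List.mem_append.1 hb with hb | hb
    · exact (List.mem_replicate.1 hb).2 ▸ hk'
    · exact hl b hb) (by simp [hls, hneg])
  simp at h0
  omega

theorem pointed_of_closed {R' : Set ι} (hd : ∀ i ∈ R', P.reflectionPerm i i ∉ R')
    (hcl : RootD.IsClosedSub P R') : Pointed P R' := fun l hl h0 => by
  by_contra hne
  obtain ⟨k, hk⟩ := exists_coroot'_sum_ne_zero P (S := R') (fun i hi => hd i hi) hcl hl hne
  exact hk (by rw [h0, map_zero])

variable {P}

/-- For a reduced pairing the coroots of positive roots are nonnegative in the simple coroots. -/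
theorem coroot_mem_closure [P.IsReduced] {Δ : Set ι} (hΔ : RootD.IsSimpleSys P Δ) {k : ι}
    (hk : k ∈ RootD.posOf P Δ) : P.coroot k ∈ AddSubmonoid.closure (P.coroot '' Δ) := by
  haveI := isAddTorsionFree_weight P
  induction hn : (ht hΔ k).natAbs using Nat.strongRecOn generalizing k with
  | ind n ih =>
    by_cases hkΔ : k ∈ Δ
    · exact AddSubmonoid.subset_closure ⟨k, hkΔ, rfl⟩
    obtain ⟨l, hl, hs⟩ := (mem_natSpan_iff_list P).mp hk
    obtain ⟨a, ha, hp⟩ := exists_pos_of_sum P (k := k) one_pos (by simpa using hs)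
    have haΔ := hl a ha
    have hp' := pz_pos_symm P hp
    have hne2 : P.root k ≠ (2 : ℕ) • P.root a := fun h => P.nsmul_notMem_range_root (n := 2) ⟨k, h⟩
    have hmem := reflectionPerm_mem_posOf hΔ haΔ hk (fun h => hkΔ (h ▸ haΔ)) hne2
    have hht : ht hΔ (P.reflectionPerm a k) = ht hΔ k + (-pz P k a) :=
      ht_add_zsmul hΔ haΔ (by rw [root_reflectionPerm_eq]; module)
    have h1 := ht_pos hΔ hk
    have h2 := ht_pos hΔ hmem
    have h := ih (ht hΔ (P.reflectionPerm a k)).natAbs (by rw [← hn]; lia) hmem rfl
    have hpos : 0 ≤ P.pairing a k := by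
      rw [← P.algebraMap_pairingIn ℤ]
      exact (pz_pos_symm P hp').le.trans' le_rfl
    obtain ⟨m, hm⟩ := Int.eq_ofNat_of_zero_le hpos
    have e : P.coroot k = P.coroot (P.reflectionPerm a k) + m • P.coroot a := by
      rw [P.coroot_reflectionPerm, P.coreflection_apply, P.root'_coroot_eq_pairing, hm, ← natCast_zsmul,
        sub_add_cancel]
    rw [e]
    exact AddSubmonoid.add_mem _ h (AddSubmonoid.nsmul_mem _ (AddSubmonoid.subset_closure (s := P.coroot '' Δ) ⟨a, haΔ, rfl⟩) _)

theorem coroot_mem_or_neg_mem [P.IsReduced] {Δ : Set ι} (hΔ : RootD.IsSimpleSys P Δ) (k : ι) :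
    P.coroot k ∈ AddSubmonoid.closure (P.coroot '' Δ) ∨ -P.coroot k ∈ AddSubmonoid.closure (P.coroot '' Δ) := by
  rcases (isPosSys_posOf hΔ).cover k with h | h
  · exact Or.inl (coroot_mem_closure hΔ h)
  · refine Or.inr ?_
    have := coroot_mem_closure hΔ h
    rwa [P.coroot_reflectionPerm, P.coreflection_apply_self] at this

theorem linearIndepOn_coroot [P.IsReduced] {Δ : Set ι} (hΔ : RootD.IsSimpleSys P Δ) :
    LinearIndepOn ℤ P.coroot Δ := by
  classical
  haveI := Fintype.ofFinite ι
  haveI : Fintype Δ := Fintype.ofFinite Δ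
  refine Fintype.linearIndependent_iff.2 fun c hc => ?_
  let A : Matrix Δ Δ ℤ := Matrix.of fun b a => P.pairing b.1 a.1
  have hA : Matrix.mulVec A c = 0 := by
    funext b
    have := congrArg (P.root' b.1) hc
    rw [map_sum, map_zero] at this
    simp only [map_smul, P.root'_coroot_eq_pairing, smul_eq_mul] at this
    rw [Matrix.mulVec, dotProduct, Pi.zero_apply, ← this]
    exact Finset.sum_congr rfl fun a _ => mul_comm _ _
  by_contra hne
  have hdet : A.det = 0 := Matrix.exists_mulVec_eq_zero_iff.1 ⟨c, fun h => hne fun i => congrFun h i, hA⟩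
  obtain ⟨d, hd, hd0⟩ := Matrix.exists_vecMul_eq_zero_iff.2 hdet
  let x : M := ∑ b : Δ, d b • P.root b.1
  have hxΔ : ∀ a : Δ, P.coroot' a.1 x = 0 := fun a => by
    simp only [x, map_sum, map_smul, P.root_coroot'_eq_pairing, smul_eq_mul]
    exact congrFun hd0 a
  have hxall : ∀ k, P.coroot' k x = 0 := by
    have hcl : ∀ z ∈ AddSubmonoid.closure (P.coroot '' Δ), P.toLinearMap x z = 0 := by
      intro z hz
      induction hz using AddSubmonoid.closure_induction with
      | mem z hz => obtain ⟨a, ha, rfl⟩ := hz; exact hxΔ ⟨a, ha⟩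
      | zero => simp
      | add u v _ _ hu hv => rw [map_add, hu, hv, add_zero]
    intro k
    rcases coroot_mem_or_neg_mem hΔ k with h | h
    · exact hcl _ h
    · have := hcl _ h
      rw [map_neg, neg_eq_zero] at this
      exact this
  have hx0 : x = 0 := P.eq_zero_of_mem_rootSpan_of_rootForm_self_eq_zero
    (Submodule.sum_mem _ fun b _ => Submodule.smul_mem _ _ (Submodule.subset_span ⟨b.1, rfl⟩))
    (by rw [P.rootForm_apply_apply]; simp [hxall])
  exact hd (funext fun b => Fintype.linearIndependent_iff.1 hΔ.linInd d hx0 b)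

/-- A base with given positive roots. -/
theorem exists_base [P.IsReduced] {S : Set ι} (hS : RootD.IsPosSys P S) :
    ∃ b : P.Base, (b.support : Set ι) = simples P S := by
  classical
  haveI := Fintype.ofFinite ι
  have hΔ := isSimpleSys_simples P hS
  refine ⟨{ support := (simples P S).toFinset
            linearIndepOn_root := ?_, linearIndepOn_coroot := ?_
            root_mem_or_neg_mem := ?_, coroot_mem_or_neg_mem := ?_ }, Set.coe_toFinset _⟩
  all_goals rw [Set.coe_toFinset]
  · exact hΔ.linInd
  · exact linearIndepOn_coroot hΔ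
  · exact hΔ.mem_or_neg_mem
  · exact coroot_mem_or_neg_mem hΔ

theorem exists_base_of_pointed [P.IsReduced] {R' : Set ι} (hR' : Pointed P R') :
    ∃ b : P.Base, R' ⊆ RootD.posOf P (b.support : Set ι) := by
  obtain ⟨S, hRS, hS⟩ := exists_isPosSys_superset P hR'
  obtain ⟨b, hb⟩ := exists_base hS
  exact ⟨b, by rw [hb, posOf_simples P hS]; exact hRS⟩

theorem nonempty_base [P.IsReduced] : Nonempty P.Base :=
  let ⟨b, _⟩ := exists_base_of_pointed (P := P) (R' := ∅) fun l hl _ =>
    List.eq_nil_iff_forall_not_mem.2 fun a ha => hl a ha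
  ⟨b⟩

end Groth.Agent.H82.Roots
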